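import Groth.Agent.Lib.Depth.Basic
import Mathlib.Algebra.Homology.DerivedCategory.Ext.Linear
import Mathlib.Algebra.Category.ModuleCat.Ext.HasExt

/-! # `Ext^p` below which everything vanishes is a `Hom` into `Ext^p(A/J, N)` -/

set_option autoImplicit false
set_option linter.style.haveILetI false
universe u

open CategoryTheory Abelian

namespace Groth.Agent.ExtTop6

variable {A : Type u} [CommRing A]

/-- Pullback of a class along a linear map. -/
noncomputable abbrev pb {M M' : Type u} [AddCommGroup M] [Module A M] [AddCommGroup M'] [Module A M']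
    {N : ModuleCat.{u} A} {p : ℕ} (f : M →ₗ[A] M') (x : Ext (ModuleCat.of A M') N p) :
    Ext (ModuleCat.of A M) N p :=
  (Ext.mk₀ (ModuleCat.ofHom f)).comp x (zero_add p)

theorem pb_pb {M M' M'' : Type u} [AddCommGroup M] [Module A M] [AddCommGroup M'] [Module A M']
    [AddCommGroup M''] [Module A M''] {N : ModuleCat.{u} A} {p : ℕ} (f : M →ₗ[A] M') (g : M' →ₗ[A] M'')
    (x : Ext (ModuleCat.of A M'') N p) : pb f (pb g x) = pb (g ∘ₗ f) x := by
  simp only [pb, Ext.mk₀_comp_mk₀_assoc]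
  rfl

theorem pb_id {M : Type u} [AddCommGroup M] [Module A M] {N : ModuleCat.{u} A} {p : ℕ}
    (x : Ext (ModuleCat.of A M) N p) : pb LinearMap.id x = x := Ext.mk₀_id_comp x

theorem pb_smul {M M' : Type u} [AddCommGroup M] [Module A M] [AddCommGroup M'] [Module A M']
    {N : ModuleCat.{u} A} {p : ℕ} (a : A) (f : M →ₗ[A] M') (x : Ext (ModuleCat.of A M') N p) :
    pb (a • f) x = a • pb f x := by
  rw [pb, pb, ← Ext.smul_comp, ← Ext.mk₀_smul]; rfl

theorem pb_sum {M M' : Type u} [AddCommGroup M] [Module A M] [AddCommGroup M'] [Module A M']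
    {N : ModuleCat.{u} A} {p : ℕ} {ι : Type*} [Fintype ι] (f : ι → (M →ₗ[A] M'))
    (x : Ext (ModuleCat.of A M') N p) : pb (∑ i, f i) x = ∑ i, pb (f i) x := by
  have h : ModuleCat.ofHom (∑ i, f i) = ∑ i, ModuleCat.ofHom (f i) :=
    map_sum ({ toFun := ModuleCat.ofHom, map_zero' := rfl, map_add' := fun _ _ => rfl } :
      (M →ₗ[A] M') →+ (ModuleCat.of A M ⟶ ModuleCat.of A M')) f _
  rw [pb, h, Ext.mk₀_sum, Ext.sum_comp]

theorem pb_comp_sum {M M' : Type u} [AddCommGroup M] [Module A M] [AddCommGroup M'] [Module A M']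
    {N : ModuleCat.{u} A} {p : ℕ} {ι : Type*} [Fintype ι] (f : M →ₗ[A] M')
    (x : ι → Ext (ModuleCat.of A M') N p) : pb f (∑ i, x i) = ∑ i, pb f (x i) := Ext.comp_sum _ _ _

variable {J : Ideal A} {N : ModuleCat.{u} A} {p : ℕ}

theorem exists_comp_eq {M F : Type u} [AddCommGroup M] [Module A M] [AddCommGroup F] [Module A F]
    (π : F →ₗ[A] M) (hπ : Function.Surjective π) (hF : J • (⊤ : Submodule A F) = ⊥)
    (u : (A ⧸ J) →ₗ[A] M) : ∃ w : (A ⧸ J) →ₗ[A] F, π ∘ₗ w = u := by
  obtain ⟨y, hy⟩ := hπ (u 1)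
  refine ⟨J.liftQ (LinearMap.toSpanSingleton A F y) fun a ha => ?_, ?_⟩
  · rw [LinearMap.mem_ker, LinearMap.toSpanSingleton_apply, ← Submodule.mem_bot A, ← hF]
    exact Submodule.smul_mem_smul ha Submodule.mem_top
  · refine Submodule.linearMap_qext _ (LinearMap.ext_ring ?_)
    show π ((1 : A) • y) = u (Submodule.Quotient.mk 1)
    rw [one_smul]
    exact hy

theorem smul_top_eq_bot_of_injective {M M' : Type u} [AddCommGroup M] [Module A M] [AddCommGroup M']
    [Module A M'] (f : M →ₗ[A] M') (hf : Function.Injective f) (h : J • (⊤ : Submodule A M') = ⊥) :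
    J • (⊤ : Submodule A M) = ⊥ := by
  rw [eq_bot_iff, Submodule.smul_le]
  intro a ha m _
  rw [Submodule.mem_bot, ← map_eq_zero_iff f hf, map_smul, ← Submodule.mem_bot A, ← h]
  exact Submodule.smul_mem_smul ha Submodule.mem_top

theorem smul_top_pi (r : ℕ) : J • (⊤ : Submodule A (Fin r → A ⧸ J)) = ⊥ := by
  rw [eq_bot_iff, Submodule.smul_le]
  intro a ha v _
  rw [Submodule.mem_bot]
  funext i
  obtain ⟨b, hb⟩ := Ideal.Quotient.mk_surjective (v i)
  rw [Pi.smul_apply, ← hb, Algebra.smul_def, Ideal.Quotient.algebraMap_eq, ← map_mul]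
  exact Ideal.Quotient.eq_zero_iff_mem.2 (Ideal.mul_mem_right _ _ ha)

variable [IsNoetherianRing A]
  (hvan : ∀ (K : Type u) [AddCommGroup K] [Module A K] [Module.Finite A K],
    J • (⊤ : Submodule A K) = ⊥ → ∀ i < p, Subsingleton (Ext (ModuleCat.of A K) N i))

include hvan

theorem injective_pb_of_surjective {M F : Type u} [AddCommGroup M] [Module A M] [AddCommGroup F] [Module A F]
    [Module.Finite A F] (π : F →ₗ[A] M) (hπ : Function.Surjective π) (hF : J • (⊤ : Submodule A F) = ⊥) :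
    Function.Injective (pb (N := N) (p := p) π) := by
  rw [show pb (N := N) (p := p) π = (Ext.mk₀ (ModuleCat.ofHom π)).precomp N (zero_add p) from rfl]
  haveI : Epi (ModuleCat.ofHom π) := (ModuleCat.epi_iff_surjective _).2 hπ
  rcases p.eq_zero_or_pos with rfl | hp
  · exact Ext.precomp_mk₀_injective_of_epi N (ModuleCat.ofHom π)
  rw [injective_iff_map_eq_zero]
  intro x hx
  have hS := LinearMap.shortExact_shortComplexKer hπ
  obtain ⟨q, rfl⟩ : ∃ q, p = 1 + q := ⟨p - 1, by omega⟩
  obtain ⟨y, rfl⟩ := Ext.contravariant_sequence_exact₃ hS N x hx rfl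
  haveI := hvan (LinearMap.ker π) (smul_top_eq_bot_of_injective (LinearMap.ker π).subtype
    Subtype.val_injective hF) q (by omega)
  rw [show y = 0 from Subsingleton.elim (α := Ext (ModuleCat.of A (LinearMap.ker π)) N q) _ _, Ext.comp_zero]

/-- Classes in `Ext^p(M,N)` are detected by their pullbacks to `A/J`. -/
theorem eq_zero_of_forall_pb {M : Type u} [AddCommGroup M] [Module A M] [Module.Finite A M]
    (hM : J • (⊤ : Submodule A M) = ⊥) (x : Ext (ModuleCat.of A M) N p)
    (hx : ∀ u : (A ⧸ J) →ₗ[A] M, pb u x = 0) : x = 0 := by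
  obtain ⟨r, π₀, hπ₀⟩ := Module.Finite.exists_fin' A M
  let σ : Fin r → ((A ⧸ J) →ₗ[A] M) := fun i => J.liftQ (LinearMap.toSpanSingleton A M (π₀ (Pi.single i 1)))
    fun a ha => by
      rw [LinearMap.mem_ker, LinearMap.toSpanSingleton_apply, ← Submodule.mem_bot A, ← hM]
      exact Submodule.smul_mem_smul ha Submodule.mem_top
  let π : (Fin r → A ⧸ J) →ₗ[A] M := ∑ i, σ i ∘ₗ LinearMap.proj i
  have hπ : Function.Surjective π := by
    intro m
    obtain ⟨v, rfl⟩ := hπ₀ m
    refine ⟨fun i => Ideal.Quotient.mk J (v i), ?_⟩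
    show π _ = _
    simp only [π, LinearMap.sum_apply, LinearMap.comp_apply, LinearMap.proj_apply]
    conv_rhs => rw [pi_eq_sum_univ' v, map_sum]
    refine Finset.sum_congr rfl fun i _ => ?_
    show v i • π₀ (Pi.single i 1) = _
    rw [map_smul]
  apply injective_pb_of_surjective hvan π hπ (smul_top_pi r)
  rw [show pb π x = ∑ i, pb (LinearMap.proj i) (pb (σ i) x) by simp only [pb_pb]; exact pb_sum _ x]
  simp [hx, pb]

/-- Every linear map on `Hom(A/J, M)` with values in `Ext^p(A/J, N)` comes from a class. -/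
theorem exists_class {M : Type u} [AddCommGroup M] [Module A M] [Module.Finite A M]
    (hM : J • (⊤ : Submodule A M) = ⊥)
    (g : ((A ⧸ J) →ₗ[A] M) →ₗ[A] Ext (ModuleCat.of A (A ⧸ J)) N p) :
    ∃ x : Ext (ModuleCat.of A M) N p, ∀ u, g u = pb u x := by
  obtain ⟨r, π₀, hπ₀⟩ := Module.Finite.exists_fin' A M
  let σ : Fin r → ((A ⧸ J) →ₗ[A] M) := fun i => J.liftQ (LinearMap.toSpanSingleton A M (π₀ (Pi.single i 1)))
    fun a ha => by
      rw [LinearMap.mem_ker, LinearMap.toSpanSingleton_apply, ← Submodule.mem_bot A, ← hM]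
      exact Submodule.smul_mem_smul ha Submodule.mem_top
  let π : (Fin r → A ⧸ J) →ₗ[A] M := ∑ i, σ i ∘ₗ LinearMap.proj i
  have hπ : Function.Surjective π := by
    intro m
    obtain ⟨v, rfl⟩ := hπ₀ m
    refine ⟨fun i => Ideal.Quotient.mk J (v i), ?_⟩
    show π _ = _
    simp only [π, LinearMap.sum_apply, LinearMap.comp_apply, LinearMap.proj_apply]
    conv_rhs => rw [pi_eq_sum_univ' v, map_sum]
    refine Finset.sum_congr rfl fun i _ => ?_
    show v i • π₀ (Pi.single i 1) = _
    rw [map_smul]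
  let x₀ : Ext (ModuleCat.of A (Fin r → A ⧸ J)) N p := ∑ i, pb (LinearMap.proj i) (g (σ i))
  have key : ∀ w : (A ⧸ J) →ₗ[A] (Fin r → A ⧸ J), pb w x₀ = g (π ∘ₗ w) := by
    intro w
    simp only [x₀, pb_comp_sum, pb_pb]
    choose a ha using fun i => Ideal.Quotient.mk_surjective (w 1 i)
    have hproj : ∀ i, (LinearMap.proj i) ∘ₗ w = a i • (LinearMap.id : (A ⧸ J) →ₗ[A] A ⧸ J) := by
      intro i
      refine Submodule.linearMap_qext _ (LinearMap.ext_ring ?_)
      show w (Submodule.Quotient.mk 1) i = a i • (Submodule.Quotient.mk 1 : A ⧸ J)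
      rw [← Submodule.Quotient.mk_smul, smul_eq_mul, mul_one]
      exact (ha i).symm
    have hπw : π ∘ₗ w = ∑ i, a i • σ i := by
      refine LinearMap.ext fun z => ?_
      simp only [π, LinearMap.comp_apply, LinearMap.sum_apply]
      refine Finset.sum_congr rfl fun i _ => ?_
      rw [← LinearMap.comp_apply (LinearMap.proj i) w z, hproj]
      simp
    rw [hπw, map_sum]
    refine Finset.sum_congr rfl fun i _ => ?_
    rw [hproj, pb_smul, pb_id, map_smul]
  haveI : Module.Finite A (LinearMap.ker π) := inferInstance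
  have hzero : pb (LinearMap.ker π).subtype x₀ = 0 := by
    refine eq_zero_of_forall_pb hvan (smul_top_eq_bot_of_injective (LinearMap.ker π).subtype Subtype.val_injective (smul_top_pi r)) _
      fun v => ?_
    rw [pb_pb, key, ← LinearMap.comp_assoc, LinearMap.comp_ker_subtype, LinearMap.zero_comp, map_zero]
  obtain ⟨x, hx⟩ := Ext.contravariant_sequence_exact₂ (LinearMap.shortExact_shortComplexKer hπ) N x₀ hzero
  refine ⟨x, fun u => ?_⟩
  obtain ⟨w, rfl⟩ := exists_comp_eq π hπ (smul_top_pi r) u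
  rw [← pb_pb, show pb π x = x₀ from hx, key]

end Groth.Agent.ExtTop6
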